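import Cfsg.Agent.Lib.J1Aut.Checks

/-!
Every automorphism of the first Janko group is inner: it moves a generating triple of involutions
to a triple with the same relations, and such triples form one orbit under conjugation.
-/

set_option autoImplicit false

namespace Cfsg.Agent.Lib.J1Aut.Aut

open Cfsg.Agent.Lib.J1.Packed Cfsg.Agent.Lib.J1.Spectrum
open Cfsg.Agent.Lib.J1.Checks (look el rep drep dblIdx dblOk dblOk_eq forceP)
open Cfsg.Agent.Lib.J1Aut.Data Cfsg.Agent.Lib.J1Aut.Checks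
open Cfsg.Agent.Lib.J1.Data (genX genY subA subB)

/-- The ambient units. -/
abbrev GL7 := GL (Fin 7) (ZMod 11)

theorem eq_of_toMat_eq {a b : P7} (ha : Wf a) (hb : Wf b) (h : toMat a = toMat b) : a = b := by
  have hrow : ∀ i, row a i = row b i := fun i => by
    rw [row_eq_sum (ha i), row_eq_sum (hb i)]
    refine Finset.sum_congr rfl fun j _ => ?_
    have hij := congrFun (congrFun h i) j
    simp only [toMat, Matrix.of_apply] at hij
    have := congrArg ZMod.val hij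
    rw [ZMod.val_natCast_of_lt (digit_lt_of_wf ha i j), ZMod.val_natCast_of_lt (digit_lt_of_wf hb i j)] at this
    rw [this]
  obtain ⟨a0, a1, a2, a3, a4, a5, a6⟩ := a
  obtain ⟨b0, b1, b2, b3, b4, b5, b6⟩ := b
  have e0 := hrow 0; have e1 := hrow 1; have e2 := hrow 2; have e3 := hrow 3
  have e4 := hrow 4; have e5 := hrow 5; have e6 := hrow 6
  simp [row] at e0 e1 e2 e3 e4 e5 e6
  rw [e0, e1, e2, e3, e4, e5, e6]

theorem forceP_elim {α : Type} (a : P7) (k : P7 → α) : forceP a k = k a := by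
  cases a; rfl

theorem eqb_self (a : P7) : eqb a a = true := by simp [eqb]

theorem wf_iv {i : ℕ} (hi : i < 1463) : Wf (iv i) := by
  have h := wfOk_eq
  simp only [wfOk, Bool.and_eq_true, List.all_eq_true, List.mem_range] at h
  exact wf_of_wfb (h.1.1.1 i hi)

theorem iv_zero_facts : iv 0 = wordP wordA ∧ mul (iv 0) (iv 0) = one ∧ iv 0 ≠ one := by
  have h := wfOk_eq
  simp only [wfOk, Bool.and_eq_true, Bool.not_eq_true'] at h
  refine ⟨eq_of_eqb h.1.1.2, eq_of_eqb h.1.2, fun e => ?_⟩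
  have h2 := h.2
  rw [e, eqb_self] at h2
  exact Bool.noConfusion h2

/-- An element of the group with a listed matrix. -/
def IsAt (x : Cfsg.Spor.J1) (i : ℕ) : Prop := ((x : GL7)).1 = toMat (iv i)

theorem isAt_conj {x g : Cfsg.Spor.J1} {gp : P7} (hg : (g : GL7).1 = toMat gp) (hgw : Wf gp) {i j : ℕ}
    (hi : i < 1463) (hj : j < 1463) (he : mul gp (iv i) = mul (iv j) gp) (hx : IsAt x i) :
    IsAt (g * x * g⁻¹) j := by
  have h : toMat gp * toMat (iv i) = toMat (iv j) * toMat gp := by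
    rw [← toMat_mul hgw (wf_iv hi), he, toMat_mul (wf_iv hj) hgw]
  unfold IsAt at hx ⊢
  rw [Subgroup.coe_mul, Subgroup.coe_mul, InvMemClass.coe_inv, Units.val_mul, Units.val_mul, hx, hg, h,
    ← hg, mul_assoc, Units.mul_inv, mul_one]

theorem ext_isAt {x y : Cfsg.Spor.J1} {i : ℕ} (hx : IsAt x i) (hy : IsAt y i) : x = y :=
  Subtype.ext (Units.ext (hx.trans hy.symm))

theorem exists_gen (g : P7) (hg : g = genX ∨ g = genY) :
    ∃ u : Cfsg.Spor.J1, (u : GL7).1 = toMat g ∧ Wf g := by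
  obtain ⟨hX, hY, -, -, -, -⟩ := wf_facts
  rcases hg with rfl | rfl
  · exact ⟨⟨Cfsg.Spor.jankoX, Subgroup.subset_closure (by simp)⟩, toMat_genX.symm, hX⟩
  · exact ⟨⟨Cfsg.Spor.jankoY, Subgroup.subset_closure (by simp)⟩, toMat_genY.symm, hY⟩

theorem exists_first : ∃ a : Cfsg.Spor.J1, IsAt a 0 := by
  obtain ⟨g, hg, he⟩ := exists_word wordA
  exact ⟨⟨g, hg⟩, by unfold IsAt; rw [he, iv_zero_facts.1]⟩

/-- The first involution. -/
noncomputable def invol : Cfsg.Spor.J1 := exists_first.choose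

theorem isAt_invol : IsAt invol 0 := exists_first.choose_spec

theorem invol_sq : invol ^ 2 = 1 := by
  apply Subtype.ext; apply Units.ext
  rw [SubgroupClass.coe_pow, Units.val_pow_eq_pow_val, isAt_invol, sq,
    ← toMat_mul (wf_iv (by norm_num)) (wf_iv (by norm_num)), iv_zero_facts.2.1, toMat_one]
  rfl

theorem invol_ne_one : invol ≠ 1 := fun h => iv_zero_facts.2.2 (eq_of_toMat_eq (wf_iv (by norm_num)) wf_one (by
  rw [toMat_one, ← isAt_invol, h]; rfl))

theorem exists_isAt : ∀ i < 1463, ∃ u : Cfsg.Spor.J1, IsAt (u * invol * u⁻¹) i := by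
  intro i
  induction i using Nat.strong_induction_on with
  | _ i ih =>
    intro hi
    rcases i with _ | i
    · exact ⟨1, by simpa using isAt_invol⟩
    · have h := treeOk_eq
      simp only [treeOk, List.all_eq_true, List.mem_range, Bool.and_eq_true] at h
      obtain ⟨h1, h2⟩ := h i (by omega)
      rw [Nat.blt_eq] at h1
      set gp := cond (Nat.beq (ivTree (i + 1)).1 0) genX genY with hgp
      obtain ⟨g, hg, hgw⟩ := exists_gen gp (by rw [hgp]; cases Nat.beq (ivTree (i + 1)).1 0 <;> simp)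
      obtain ⟨u, hu⟩ := ih _ h1 (by omega)
      refine ⟨g * u, ?_⟩
      have := isAt_conj hg hgw (by omega) hi (eq_of_eqb h2) hu
      rwa [show g * u * invol * (g * u)⁻¹ = g * (u * invol * u⁻¹) * g⁻¹ by group]

theorem act_facts {i : ℕ} (hi : i < 1463) : ∀ g ∈ [genX, genY, subA, subB], ∃ j < 1463,
    mul g (iv i) = mul (iv j) g := by
  have h := actOk_eq
  simp only [actOk, moveOk, List.all_eq_true, List.mem_range, Bool.and_eq_true, Nat.blt_eq] at h
  obtain ⟨⟨⟨⟨a1, b1⟩, a2, b2⟩, a3, b3⟩, a4, b4⟩ := h i hi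
  intro g hg
  simp only [List.mem_cons, List.not_mem_nil, or_false] at hg
  rcases hg with rfl | rfl | rfl | rfl
  exacts [⟨_, a1, eq_of_eqb b1⟩, ⟨_, a2, eq_of_eqb b2⟩, ⟨_, a3, eq_of_eqb b3⟩, ⟨_, a4, eq_of_eqb b4⟩]

theorem exists_index_conj (u : Cfsg.Spor.J1) :
    ∀ x : Cfsg.Spor.J1, ∀ i < 1463, IsAt x i → ∃ j < 1463, IsAt (u * x * u⁻¹) j := by
  obtain ⟨u, hu⟩ := u
  have hu' : u ∈ Submonoid.closure ({Cfsg.Spor.jankoX, Cfsg.Spor.jankoY} : Set GL7) := by
    rwa [← Subgroup.closure_toSubmonoid_of_finite, Subgroup.mem_toSubmonoid]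
  induction hu' using Submonoid.closure_induction_left with
  | one =>
    intro x i hi hx
    refine ⟨i, hi, ?_⟩
    convert hx using 2
    rw [show (⟨1, hu⟩ : Cfsg.Spor.J1) = 1 from rfl]
    group
  | mul_left z hz w hw ih =>
    intro x i hi hx
    have hwJ : w ∈ Cfsg.Spor.J1 := by
      rw [Cfsg.Spor.J1, ← Subgroup.mem_toSubmonoid, Subgroup.closure_toSubmonoid_of_finite]; exact hw
    obtain ⟨j, hj, hjx⟩ := ih hwJ x i hi hx
    obtain ⟨gp, hgp, hz'⟩ : ∃ gp, (gp = genX ∨ gp = genY) ∧ z.1 = toMat gp := by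
      rcases hz with rfl | rfl
      · exact ⟨_, Or.inl rfl, toMat_genX.symm⟩
      · exact ⟨_, Or.inr rfl, toMat_genY.symm⟩
    obtain ⟨g, hg, hgw⟩ := exists_gen gp hgp
    obtain ⟨k, hk, he⟩ := act_facts hj gp (by rcases hgp with rfl | rfl <;> simp)
    refine ⟨k, hk, ?_⟩
    have hval : g = ⟨z, Subgroup.subset_closure hz⟩ := Subtype.ext (Units.ext (hg.trans hz'.symm))
    have := isAt_conj hg hgw hj hk he hjx
    have e : (⟨z * w, hu⟩ : Cfsg.Spor.J1) = g * ⟨w, hwJ⟩ := by rw [hval]; rfl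
    rwa [e, show g * ⟨w, hwJ⟩ * x * (g * ⟨w, hwJ⟩)⁻¹ = g * (⟨w, hwJ⟩ * x * ⟨w, hwJ⟩⁻¹) * g⁻¹ by group]

theorem el_move : ∀ n < 660, ∀ i < 1463, ∃ j < 1463,
    toMat (el n) * toMat (iv i) = toMat (iv j) * toMat (el n) := by
  obtain ⟨-, -, hA, hB, -, -⟩ := wf_facts
  intro n
  induction n using Nat.strong_induction_on with
  | _ n ih =>
    intro hn i hi
    rcases n with _ | n
    · exact ⟨i, hi, by rw [toMat_el_zero, one_mul, mul_one]⟩
    · obtain ⟨g, m, hg, hm, he⟩ := tree_step n hn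
      obtain ⟨j, hj, hj'⟩ := ih m hm (by omega) i hi
      obtain ⟨k, hk, hk'⟩ := act_facts hj g (by rcases hg with rfl | rfl <;> simp)
      have hgw : Wf g := by rcases hg with rfl | rfl <;> assumption
      refine ⟨k, hk, ?_⟩
      rw [he, mul_assoc, hj', ← mul_assoc, ← toMat_mul hgw (wf_iv hj), hk', toMat_mul (wf_iv hk) hgw, mul_assoc]

/-- Every involution is listed. -/
theorem exists_index {x : Cfsg.Spor.J1} (hx2 : x ^ 2 = 1) (hx1 : x ≠ 1) :
    ∃ j < 1463, IsAt x j := by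
  obtain ⟨-, -, -, -, hel, hrep⟩ := wf_facts
  obtain ⟨i, hi, k, hk, he⟩ := exists_rep x.2
  have h := dblOk_eq
  simp only [dblOk, List.all_eq_true, List.mem_range, Bool.and_eq_true] at h
  obtain ⟨⟨⟨ha, hb⟩, hc⟩, hd⟩ := h i hi
  simp only [Nat.blt_eq] at ha hb hc
  set a := (dblIdx i).1
  set b := (dblIdx i).2.1
  set c := (dblIdx i).2.2
  have hdrep : Wf (drep b) := hrep _ (by
    have : ∀ b < 5, Cfsg.Agent.Lib.J1.Data.dblReps.getD b 0 < 266 := by decide
    exact this b hb)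
  have hr : toMat (rep i) = toMat (el a) * toMat (drep b) * toMat (el c) := by
    rw [eq_of_eqb hd, toMat_mul (wf_mul _ _) (hel c hc), toMat_mul (hel a ha) hdrep]
  obtain ⟨l1, hl1, e1⟩ := el_closed c hc k hk
  obtain ⟨l, hl, e2⟩ := el_closed l1 hl1 a ha
  set m := mul (drep b) (el l) with hm
  have hmw : Wf m := wf_mul _ _
  have hg : (x : GL7).1 * toMat (el a) = toMat (el a) * toMat m := by
    rw [he, hr, hm, toMat_mul hdrep (hel l hl), ← e2, ← e1]
    simp only [mul_assoc]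
  have hu := isUnit_el a ha
  have hxx : (x : GL7).1 * (x : GL7).1 = 1 := by
    rw [← Units.val_mul, ← Subgroup.coe_mul, ← sq, hx2]; rfl
  have hm2 : toMat m * toMat m = 1 := by
    apply hu.mul_left_cancel
    rw [← mul_assoc, ← hg, mul_assoc, ← hg, ← mul_assoc, hxx, one_mul, mul_one]
  have hm1 : toMat m ≠ 1 := fun h => hx1 (by
    rw [h, mul_one] at hg
    apply Subtype.ext; apply Units.ext
    exact hu.mul_right_cancel (hg.trans (one_mul _).symm))
  have hcand := candOk_eq b hb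
  simp only [candOk, List.all_eq_true, List.mem_range] at hcand
  have hchk := hcand l hl
  rw [← hm] at hchk
  generalize look cand 0 (660 * b + l) = q at hchk
  rcases q with _ | q
  · exfalso
    simp only [candChk, forceP_elim, Bool.or_eq_true, Bool.not_eq_true'] at hchk
    rcases hchk with h1 | h1
    · exact hm1 (by rw [eq_of_eqb h1, toMat_one])
    · have h2 : mul m m = one := eq_of_toMat_eq (wf_mul _ _) wf_one (by
        rw [toMat_mul hmw hmw, hm2, toMat_one])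
      rw [h2, eqb_self] at h1
      exact Bool.noConfusion h1
  · simp only [candChk, Bool.and_eq_true, Nat.blt_eq] at hchk
    obtain ⟨hq, hq'⟩ := hchk
    obtain ⟨j, hj, hj'⟩ := el_move a ha q hq
    refine ⟨j, hj, ?_⟩
    unfold IsAt
    apply hu.mul_right_cancel
    rw [hg, eq_of_eqb hq', hj']

theorem pow_iff {x : Cfsg.Spor.J1} {m : P7} (hm : Wf m) (hx : (x : GL7).1 = toMat m) (n : ℕ) :
    x ^ n = 1 ↔ eqb (powP m n) one = true := by
  constructor
  · intro h
    rw [eq_of_toMat_eq (wf_powP m n) wf_one (by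
      rw [toMat_powP hm, ← hx, ← Units.val_pow_eq_pow_val, ← SubgroupClass.coe_pow, h, toMat_one]; rfl)]
    exact eqb_self _
  · intro h
    apply Subtype.ext; apply Units.ext
    rw [SubgroupClass.coe_pow, Units.val_pow_eq_pow_val, hx, ← toMat_powP hm, eq_of_eqb h, toMat_one]
    rfl

theorem val_mul_isAt {x : Cfsg.Spor.J1} {m : P7} (hm : Wf m) (hx : (x : GL7).1 = toMat m)
    {y : Cfsg.Spor.J1} {i : ℕ} (hi : i < 1463) (hy : IsAt y i) :
    ((x * y : Cfsg.Spor.J1) : GL7).1 = toMat (mul m (iv i)) := by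
  rw [Subgroup.coe_mul, Units.val_mul, hx, hy, toMat_mul hm (wf_iv hi)]

theorem thirdRel_iff {A B : Cfsg.Spor.J1} (hA : IsAt A 0) (hB : IsAt B idxB) (hiB : idxB < 1463)
    {z : Cfsg.Spor.J1} {i : ℕ} (hi : i < 1463) (hz : IsAt z i) :
    thirdRel (iv i) = true ↔ (A * z) ^ 3 = 1 ∧ (B * z) ^ 5 = 1 ∧ (A * B * z) ^ 7 = 1 := by
  rw [pow_iff (wf_mul _ _) (val_mul_isAt (wf_iv (by norm_num)) hA hi hz),
    pow_iff (wf_mul _ _) (val_mul_isAt (wf_iv hiB) hB hi hz),
    pow_iff (wf_mul _ _) (val_mul_isAt (wf_mul _ _)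
      (val_mul_isAt (wf_iv (by norm_num)) hA hiB hB) hi hz)]
  simp only [thirdRel, forceP_elim, Bool.and_eq_true, and_assoc]

theorem partners_lt : ∀ q < 120, (partners.getD q (0, 0, 0)).1 < 1463 := by decide +kernel

theorem partner_conj {A B : Cfsg.Spor.J1} (hA : IsAt A 0) (hB : IsAt B idxB) :
    ∀ q < 120, ∀ z : Cfsg.Spor.J1, ∀ i < 1463, (partners.getD q (0, 0, 0)).1 = i → IsAt z i →
      ∃ h : Cfsg.Spor.J1, h * A * h⁻¹ = A ∧ z = h * B * h⁻¹ := by
  intro q
  induction q using Nat.strong_induction_on with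
  | _ q ih =>
    intro hq z i hi hqi hz
    rcases q with _ | q
    · refine ⟨1, by group, ?_⟩
      have e : idxB = i := by rw [idxB]; exact hqi
      rw [← e] at hz
      rw [ext_isAt hz hB]; group
    · have hP := partnerOk_eq
      simp only [partnerOk, List.all_eq_true, List.mem_range] at hP
      have hP' := hP q (by omega)
      generalize hr : partners.getD (q + 1) (0, 0, 0) = r at hP' hqi
      simp only [Bool.and_eq_true, Nat.blt_eq, forceP_elim] at hP'
      obtain ⟨⟨h1, -⟩, h3, h4⟩ := hP'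
      obtain ⟨g, hg, hge⟩ := exists_word (centW r.2.1)
      set g' : Cfsg.Spor.J1 := ⟨g, hg⟩
      have hgA : g' * A * g'⁻¹ = A :=
        ext_isAt (isAt_conj (g := g') hge (wf_wordP _) (by norm_num) (by norm_num) (eq_of_eqb h3) hA) hA
      obtain ⟨w, hw⟩ := exists_isAt _ (partners_lt r.2.2 (by omega))
      obtain ⟨h, hhA, hhB⟩ := ih _ h1 (by omega) _ _ (partners_lt r.2.2 (by omega)) rfl hw
      refine ⟨g' * h, ?_, ?_⟩
      · calc g' * h * A * (g' * h)⁻¹ = g' * (h * A * h⁻¹) * g'⁻¹ := by group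
          _ = A := by rw [hhA, hgA]
      · have := isAt_conj (g := g') hge (wf_wordP _) (partners_lt r.2.2 (by omega)) hi
          (by rw [← hqi]; exact eq_of_eqb h4) hw
        rw [ext_isAt hz this, hhB]
        group

theorem word_fix {A B C : Cfsg.Spor.J1} (hA : IsAt A 0) (hB : IsAt B idxB) (hC : IsAt C thirdIdx)
    (hiB : idxB < 1463) (hiC : thirdIdx < 1463) {χ : MulAut Cfsg.Spor.J1}
    (hχA : χ A = A) (hχB : χ B = B) (hχC : χ C = C) :
    ∀ w : List ℕ, ∃ z : Cfsg.Spor.J1, (z : GL7).1 = toMat (tripleP w) ∧ χ z = z ∧ Wf (tripleP w) := by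
  intro w
  induction w with
  | nil => exact ⟨1, by rw [tripleP, toMat_one]; rfl, map_one χ, wf_one⟩
  | cons n w ih =>
    obtain ⟨z, hz, hzf, hzw⟩ := ih
    have : ∃ L : Cfsg.Spor.J1, ∃ i < 1463, IsAt L i ∧ χ L = L ∧ letterP n = iv i := by
      rcases n with _ | _ | n
      · exact ⟨A, 0, by norm_num, hA, hχA, by rw [letterP]⟩
      · exact ⟨B, idxB, hiB, hB, hχB, by rw [letterP]⟩
      · exact ⟨C, thirdIdx, hiC, hC, hχC, by rw [letterP] <;> omega⟩
    obtain ⟨L, i, hi, hL, hLf, hLe⟩ := this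
    refine ⟨L * z, ?_, by rw [map_mul, hLf, hzf], by rw [tripleP]; exact wf_mul _ _⟩
    rw [Subgroup.coe_mul, Units.val_mul, hL, hz, tripleP, hLe, toMat_mul (wf_iv hi) hzw]

theorem words_eq : tripleP wordX = genX ∧ tripleP wordY = genY := by
  have hT := tripleOk_eq
  simp only [tripleOk, Bool.and_eq_true] at hT
  exact ⟨eq_of_eqb hT.1.2, eq_of_eqb hT.2⟩

theorem eq_one_of_fix {A B C : Cfsg.Spor.J1} (hA : IsAt A 0) (hB : IsAt B idxB) (hC : IsAt C thirdIdx)
    (hiB : idxB < 1463) (hiC : thirdIdx < 1463) {χ : MulAut Cfsg.Spor.J1}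
    (hχA : χ A = A) (hχB : χ B = B) (hχC : χ C = C) : χ = 1 := by
  have hgen : ∀ g (hg : g ∈ ({Cfsg.Spor.jankoX, Cfsg.Spor.jankoY} : Set GL7)),
      χ ⟨g, Subgroup.subset_closure hg⟩ = ⟨g, Subgroup.subset_closure hg⟩ := by
    intro g hg
    obtain ⟨w, hw⟩ : ∃ w, g.1 = toMat (tripleP w) := by
      rcases hg with rfl | rfl
      · exact ⟨wordX, ((congrArg toMat words_eq.1).trans toMat_genX).symm⟩
      · exact ⟨wordY, ((congrArg toMat words_eq.2).trans toMat_genY).symm⟩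
    obtain ⟨z, hz, hzf, -⟩ := word_fix hA hB hC hiB hiC hχA hχB hχC w
    have : z = ⟨g, Subgroup.subset_closure hg⟩ := Subtype.ext (Units.ext (hz.trans hw.symm))
    rwa [this] at hzf
  apply MulEquiv.ext
  rintro ⟨g, hg⟩
  show χ ⟨g, hg⟩ = ⟨g, hg⟩
  induction hg using Subgroup.closure_induction with
  | mem y hy => exact hgen y hy
  | one => exact map_one χ
  | mul y z hy hz ihy ihz =>
    have e : (⟨y * z, Subgroup.mul_mem _ hy hz⟩ : Cfsg.Spor.J1) = ⟨y, hy⟩ * ⟨z, hz⟩ := rfl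
    exact (congrArg χ e).trans (by rw [map_mul, ihy, ihz]; rfl)
  | inv y hy ihy =>
    have e : (⟨y⁻¹, Subgroup.inv_mem _ hy⟩ : Cfsg.Spor.J1) = (⟨y, hy⟩)⁻¹ := rfl
    exact (congrArg χ e).trans (by rw [map_inv, ihy]; rfl)

/-- Every automorphism is inner. -/
theorem aut_inner (φ : MulAut Cfsg.Spor.J1) : ∃ g : Cfsg.Spor.J1, MulAut.conj g = φ := by
  have hT := tripleOk_eq
  simp only [tripleOk, Bool.and_eq_true, Nat.blt_eq, Bool.not_eq_true'] at hT
  obtain ⟨⟨⟨⟨⟨⟨hiB, hiC⟩, hAB⟩, hAB7⟩, hrel⟩, hwX⟩, hwY⟩ := hT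
  set A := invol with hAdef
  have hA : IsAt A 0 := isAt_invol
  obtain ⟨uB, hB⟩ := exists_isAt idxB hiB
  obtain ⟨uC, hC⟩ := exists_isAt thirdIdx hiC
  set B := uB * invol * uB⁻¹
  set C := uC * invol * uC⁻¹
  have hconj2 : ∀ (u : Cfsg.Spor.J1), (u * invol * u⁻¹) ^ 2 = 1 ∧ u * invol * u⁻¹ ≠ 1 := fun u =>
    ⟨by rw [conj_pow, invol_sq]; group, fun h => invol_ne_one (conj_eq_one_iff.1 h)⟩
  have himg : ∀ (ψ : MulAut Cfsg.Spor.J1) (u : Cfsg.Spor.J1),
      ∃ j < 1463, IsAt (ψ (u * invol * u⁻¹)) j := fun ψ u =>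
    exists_index (by rw [← map_pow, (hconj2 u).1, map_one])
      (fun h => (hconj2 u).2 (ψ.injective (h.trans (map_one ψ).symm)))
  -- the first involution
  obtain ⟨j, hj, hjA⟩ := exists_index (x := φ A) (by rw [← map_pow, invol_sq, map_one])
    (fun h => invol_ne_one (φ.injective (h.trans (map_one φ).symm)))
  obtain ⟨u, hu⟩ := exists_isAt j hj
  set ψ := MulAut.conj u⁻¹ * φ with hψ
  have hψA : ψ A = A := by
    rw [hψ, MulAut.mul_apply, ext_isAt hjA hu, MulAut.conj_apply, hAdef]; group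
  -- the second
  obtain ⟨k, hk, hkB⟩ := himg ψ uB
  have hk7 : eqb (powP (mul (iv 0) (iv k)) 7) one = true :=
    (pow_iff (wf_mul _ _) (val_mul_isAt (wf_iv (by norm_num)) hA hk hkB) 7).1 (by
      have hbase : (A * B) ^ 7 = 1 :=
        (pow_iff (wf_mul _ _) (val_mul_isAt (wf_iv (by norm_num)) hA hiB hB) 7).2 hAB7
      have := congrArg ψ hbase
      rwa [map_pow, map_mul, hψA, map_one] at this)
  have hS := sevenOk_eq
  simp only [sevenOk, List.all_eq_true, List.mem_range] at hS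
  have hk' := hS k hk
  simp only [sevenChk, forceP_elim, hk7, Bool.not_true, Bool.false_or, Bool.or_eq_true,
    List.any_eq_true, List.mem_range] at hk'
  have hk0 : k ≠ 0 := fun h => by
    have h1 : B = A := ψ.injective ((ext_isAt (h ▸ hkB) hA).trans hψA.symm)
    have h2 : iv 0 = iv idxB := eq_of_toMat_eq (wf_iv (by norm_num)) (wf_iv hiB) (by
      rw [← hA, ← hB, h1])
    rw [h2, eqb_self] at hAB
    exact Bool.noConfusion hAB
  have hk'' : ∃ q < 120, (partners.getD q (0, 0, 0)).1 = k := by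
    rcases hk' with h | ⟨q, hq, h⟩
    · exact absurd (Nat.eq_of_beq_eq_true h) hk0
    · exact ⟨q, hq, Nat.eq_of_beq_eq_true h⟩
  obtain ⟨q, hq, hqk⟩ := hk''
  obtain ⟨h, hhA, hhB⟩ := partner_conj hA hB q hq _ k hk hqk hkB
  set χ := MulAut.conj h⁻¹ * ψ with hχ
  have hχA : χ A = A := by
    rw [hχ, MulAut.mul_apply, hψA, MulAut.conj_apply]
    calc h⁻¹ * A * h⁻¹⁻¹ = h⁻¹ * (h * A * h⁻¹) * h := by rw [hhA, inv_inv]
      _ = A := by group
  have hχB : χ B = B := by
    rw [hχ, MulAut.mul_apply, hhB, MulAut.conj_apply]; group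
  -- the third
  obtain ⟨l, hl, hlC⟩ := himg χ uC
  obtain ⟨r1, r2, r3⟩ := (thirdRel_iff hA hB hiB hiC hC).1 hrel
  have hl' : thirdRel (iv l) = true := (thirdRel_iff hA hB hiB hl hlC).2 ⟨by
      have := congrArg χ r1; rwa [map_pow, map_mul, hχA, map_one] at this, by
      have := congrArg χ r2; rwa [map_pow, map_mul, hχB, map_one] at this, by
      have := congrArg χ r3; rwa [map_pow, map_mul, map_mul, hχA, hχB, map_one] at this⟩
  have hTh := thirdOk_eq
  simp only [thirdOk, List.all_eq_true, List.mem_range] at hTh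
  have hlC' := hTh l hl
  rw [hl', Bool.not_true, Bool.false_or] at hlC'
  have hχC : χ C = C := ext_isAt (Nat.eq_of_beq_eq_true hlC' ▸ hlC) hC
  -- all of the group
  have hid : χ = 1 := eq_one_of_fix hA hB hC hiB hiC hχA hχB hχC
  refine ⟨u * h, ?_⟩
  rw [hχ, hψ, map_inv, map_inv] at hid
  rw [map_mul]
  exact (eq_of_inv_mul_eq_one (by rw [_root_.mul_inv_rev, mul_assoc]; exact hid))

end Cfsg.Agent.Lib.J1Aut.Aut
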