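import Cfsg.Agent.Lib.J1.Spectrum
import Cfsg.Agent.Lib.J1Aut.Data

/-!
Kernel checks of the tables for the automorphisms of the first Janko group.
-/

set_option autoImplicit false
set_option maxRecDepth 4000

namespace Cfsg.Agent.Lib.J1Aut.Checks

open Cfsg.Agent.Lib.J1.Packed Cfsg.Agent.Lib.J1.Checks Cfsg.Agent.Lib.J1.Spectrum
open Cfsg.Agent.Lib.J1Aut.Data
open Cfsg.Agent.Lib.J1.Data (genX genY subA subB)

/-- An involution of the list. -/
def iv (i : ℕ) : P7 := look invs one i

/-- The action of the four elements. -/
def ivAct (i : ℕ) : (ℕ × ℕ) × ℕ × ℕ := look invAct ((0, 0), 0, 0) i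

/-- The tree. -/
def ivTree (i : ℕ) : ℕ × ℕ := look invTree (0, 0) i

/-- The word of the first involution. -/
def wordA : List Bool := [true, true, true, true, false, true, false]

/-- The second involution. -/
def idxB : ℕ := (partners.getD 0 (0, 0, 0)).1

/-- A commuting element. -/
def centW (k : ℕ) : List Bool := centWords.getD k []

/-- The list is reduced and starts with the given word. -/
def wfOk : Bool :=
  (List.range 1463).all (fun i => wfb (iv i)) && eqb (iv 0) (wordP wordA) &&
    eqb (mul (iv 0) (iv 0)) one && !eqb (iv 0) one

theorem wfOk_eq : wfOk = true := by decide +kernel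

/-- The tree. -/
def treeOk : Bool :=
  (List.range 1462).all fun i =>
    Nat.blt (ivTree (i + 1)).2 (i + 1) &&
      eqb (mul (cond (Nat.beq (ivTree (i + 1)).1 0) genX genY) (iv (ivTree (i + 1)).2))
        (mul (iv (i + 1)) (cond (Nat.beq (ivTree (i + 1)).1 0) genX genY))

theorem treeOk_eq : treeOk = true := by decide +kernel

/-- One conjugation. -/
def moveOk (g : P7) (i j : ℕ) : Bool := Nat.blt j 1463 && eqb (mul g (iv i)) (mul (iv j) g)

/-- The list is invariant. -/
def actOk : Bool :=
  (List.range 1463).all fun i =>
    moveOk genX i (ivAct i).1.1 && moveOk genY i (ivAct i).1.2 &&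
      moveOk subA i (ivAct i).2.1 && moveOk subB i (ivAct i).2.2

theorem actOk_eq : actOk = true := by decide +kernel

/-- A candidate is no involution or is listed. -/
def candChk (m : P7) : ℕ → Bool
  | 0 => forceP m fun m => eqb m one || !eqb (mul m m) one
  | k + 1 => Nat.blt k 1463 && eqb m (iv k)

/-- All candidates in one double coset. -/
def candOk (b : ℕ) : Bool :=
  (List.range 660).all fun n => candChk (mul (drep b) (el n)) (look cand 0 (660 * b + n))

theorem candOk_eq : ∀ b < 5, candOk b = true := by decide +kernel

/-- The partners form one orbit of the centraliser of the first involution. -/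
def partnerOk : Bool :=
  (List.range 119).all fun j =>
    let r := partners.getD (j + 1) (0, 0, 0)
    Nat.blt r.2.2 (j + 1) && Nat.blt r.2.1 centWords.length &&
      forceP (wordP (centW r.2.1)) fun h =>
        eqb (mul h (iv 0)) (mul (iv 0) h) &&
          eqb (mul h (iv (partners.getD r.2.2 (0, 0, 0)).1)) (mul (iv r.1) h)

theorem partnerOk_eq : partnerOk = true := by decide +kernel

/-- Nothing else gives a product of order seven. -/
def sevenChk (i : ℕ) : Bool :=
  !forceP (mul (iv 0) (iv i)) (fun m => eqb (powP m 7) one) || Nat.beq i 0 ||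
    (List.range 120).any fun j => Nat.beq (partners.getD j (0, 0, 0)).1 i

/-- All positions. -/
def sevenOk : Bool := (List.range 1463).all sevenChk

theorem sevenOk_eq : sevenOk = true := by decide +kernel

/-- The three relations for the third involution. -/
def thirdRel (c : P7) : Bool :=
  forceP (mul (iv 0) c) (fun m => eqb (powP m 3) one) &&
    forceP (mul (iv idxB) c) (fun m => eqb (powP m 5) one) &&
      forceP (mul (mul (iv 0) (iv idxB)) c) fun m => eqb (powP m 7) one

/-- The third involution is determined. -/
def thirdOk : Bool :=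
  (List.range 1463).all fun i => !thirdRel (iv i) || Nat.beq i thirdIdx

theorem thirdOk_eq : thirdOk = true := by decide +kernel

/-- One letter. -/
def letterP : ℕ → P7
  | 0 => iv 0
  | 1 => iv idxB
  | _ => iv thirdIdx

/-- A word in the three involutions. -/
def tripleP : List ℕ → P7
  | [] => one
  | k :: w => mul (letterP k) (tripleP w)

/-- Facts on the chosen triple. -/
def tripleOk : Bool :=
  Nat.blt idxB 1463 && Nat.blt thirdIdx 1463 && !eqb (iv 0) (iv idxB) &&
    eqb (powP (mul (iv 0) (iv idxB)) 7) one && thirdRel (iv thirdIdx) &&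
      eqb (tripleP wordX) genX && eqb (tripleP wordY) genY

theorem tripleOk_eq : tripleOk = true := by decide +kernel

end Cfsg.Agent.Lib.J1Aut.Checks
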